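import Mathlib
import Cfsg.Agent.Lib.Coprime.Core
import Cfsg.Agent.Lib.Classical.SL2Sylow
import Cfsg.Prelude.Def_Transfer

/-!
A group of shape `3^(1+2)·SL₂(3)` containing an elementary abelian subgroup of order 27 splits
over its normal 3-subgroup, with a complement inside the centralizer of an involution that
inverts the Frattini quotient.
-/

set_option autoImplicit false
set_option linter.unusedSectionVars false

namespace CfsgLib.Char.ShapePSpFourThree

open Subgroup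
open scoped commutatorElement

abbrev SL3 := Matrix.SpecialLinearGroup (Fin 2) (ZMod 3)

theorem sl3_card : Nat.card SL3 = 24 := by
  rw [CfsgLib.Classical.card_sl2, ZMod.card]

theorem sl3_invol : ∀ g : SL3, g ^ 2 = 1 → g = 1 ∨ g = -1 := by decide +kernel

theorem sl3_sq_sq : ∀ g : SL3, ∃ h k : SL3, g = h ^ 2 * k ^ 2 := by decide +kernel

theorem sl3_neg_one_mem : ∀ g : SL3, g ≠ 1 → g = -1 ∨
    ∃ h : SL3, (g * h * g⁻¹ * h⁻¹) ^ 2 = -1 ∨ (g * h * g⁻¹ * h⁻¹) = -1 := by decide +kernel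

theorem sl3_four : (Finset.univ.filter fun g : SL3 => g ^ 4 = 1).card = 8 := by decide +kernel

theorem sl3_neg_one_ne : (-1 : SL3) ≠ 1 := by decide +kernel

/-- The hypotheses on the group, with the quotient map to `SL₂(3)`. -/
structure Setting (X : Type*) [Group X] where
  R : Subgroup X
  π : X →* SL3
  surj : Function.Surjective π
  ker : π.ker = R
  card_R : Nat.card R = 27
  exp_R : ∀ r ∈ R, r ^ 3 = 1
  card_Z : Nat.card (center R) = 3
  comm_Z : ∀ a b : R, ⁅a, b⁆ ∈ center R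
  no_two : ∀ N : Subgroup X, N.Normal → IsPGroup 2 N → N = ⊥
  exists_elem : ∃ E : Subgroup X, IsMulCommutative E ∧ (∀ a ∈ E, a ^ 3 = 1) ∧ Nat.card E = 27

variable {X : Type*} [Group X] [Finite X] (S : Setting X)

namespace Setting

theorem mem_R {x : X} : x ∈ S.R ↔ S.π x = 1 := by rw [← S.ker, MonoidHom.mem_ker]

theorem normal_R : S.R.Normal := by rw [← S.ker]; exact S.π.normal_ker

theorem conj_R (g : X) {r : X} (hr : r ∈ S.R) : g * r * g⁻¹ ∈ S.R := S.normal_R.conj_mem r hr g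

/-- The centre of the normal subgroup, inside the whole group. -/
def Z : Subgroup X := (center S.R).map S.R.subtype

theorem card_Z' : Nat.card S.Z = 3 := by
  rw [Z, Subgroup.card_map_of_injective S.R.subtype_injective, S.card_Z]

theorem mem_Z {z : X} : z ∈ S.Z ↔ z ∈ S.R ∧ ∀ r ∈ S.R, r * z = z * r := by
  constructor
  · rintro ⟨⟨z, hz⟩, hc, rfl⟩
    exact ⟨hz, fun r hr => congrArg Subtype.val (mem_center_iff.1 hc ⟨r, hr⟩)⟩
  · rintro ⟨hz, h⟩
    exact ⟨⟨z, hz⟩, mem_center_iff.2 fun r => Subtype.ext (h r.1 r.2), rfl⟩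

theorem Z_le : S.Z ≤ S.R := fun _ h => (S.mem_Z.1 h).1

theorem Z_conj (g : X) {z : X} (hz : z ∈ S.Z) : g * z * g⁻¹ ∈ S.Z := by
  obtain ⟨h1, h2⟩ := S.mem_Z.1 hz
  refine S.mem_Z.2 ⟨S.conj_R g h1, fun r hr => ?_⟩
  have h3 := h2 (g⁻¹ * r * g) (by simpa using S.conj_R g⁻¹ hr)
  calc r * (g * z * g⁻¹) = g * ((g⁻¹ * r * g) * z) * g⁻¹ := by group
    _ = g * (z * (g⁻¹ * r * g)) * g⁻¹ := by rw [h3]
    _ = _ := by group

theorem comm_mem_Z {a b : X} (ha : a ∈ S.R) (hb : b ∈ S.R) : a * b * a⁻¹ * b⁻¹ ∈ S.Z :=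
  ⟨⁅(⟨a, ha⟩ : S.R), ⟨b, hb⟩⁆, S.comm_Z _ _, by simp [commutatorElement_def]⟩

theorem inv_eq_sq {r : X} (hr : r ∈ S.R) : r⁻¹ = r * r := by
  refine inv_eq_of_mul_eq_one_left ?_
  rw [← S.exp_R r hr, pow_succ, sq]

theorem exists_not_comm {a : X} (ha : a ∈ S.R) (haZ : a ∉ S.Z) : ∃ b ∈ S.R, b * a ≠ a * b := by
  by_contra h
  push_neg at h
  exact haZ (S.mem_Z.2 ⟨ha, h⟩)

theorem card_dvd_le {H : Subgroup X} (h : H ≤ S.R) : Nat.card H = 1 ∨ Nat.card H = 3 ∨
    Nat.card H = 9 ∨ Nat.card H = 27 := by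
  have h1 := Subgroup.card_dvd_of_le h
  rw [S.card_R] at h1
  obtain ⟨i, hi, h2⟩ := (Nat.dvd_prime_pow (m := 3) Nat.prime_three).1 (by simpa using h1)
  interval_cases i <;> simp [h2]

theorem eq_R_of_lt {A B : Subgroup X} (h1 : S.Z < A) (h2 : A < B) (h3 : B ≤ S.R) : B = S.R := by
  have hA := S.card_dvd_le (h2.le.trans h3)
  have hB := S.card_dvd_le h3
  have c1 : Nat.card S.Z < Nat.card A := by
    refine lt_of_le_of_ne (Subgroup.card_le_of_le h1.le) fun h => h1.ne ?_
    exact Subgroup.eq_of_le_of_card_ge h1.le h.ge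
  have c2 : Nat.card A < Nat.card B := by
    refine lt_of_le_of_ne (Subgroup.card_le_of_le h2.le) fun h => h2.ne ?_
    exact Subgroup.eq_of_le_of_card_ge h2.le h.ge
  rw [S.card_Z'] at c1
  exact Subgroup.eq_of_le_of_card_ge h3 (by rw [S.card_R]; omega)

theorem closure_pair {a b : X} (ha : a ∈ S.R) (hb : b ∈ S.R) (hab : b * a ≠ a * b) :
    closure ((S.Z : Set X) ∪ {a, b}) = S.R := by
  have haZ : a ∉ S.Z := fun h => hab ((S.mem_Z.1 h).2 b hb)
  have h3 : closure ((S.Z : Set X) ∪ {a, b}) ≤ S.R := (closure_le _).2 (by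
    rintro x (hx | rfl | rfl)
    · exact S.Z_le hx
    · exact ha
    · exact hb)
  refine S.eq_R_of_lt (A := closure ((S.Z : Set X) ∪ {a})) ?_ ?_ h3
  · refine lt_of_le_of_ne (fun x hx => subset_closure (Or.inl hx)) fun h => haZ ?_
    rw [h]; exact subset_closure (Or.inr rfl)
  · refine lt_of_le_of_ne (closure_mono (Set.union_subset_union_right _ (by simp))) fun h => hab ?_
    have hbA : b ∈ closure ((S.Z : Set X) ∪ {a}) := by
      rw [h]; exact subset_closure (Or.inr (Or.inr rfl))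
    have hle : closure ((S.Z : Set X) ∪ {a}) ≤ centralizer {a} := (closure_le _).2 (by
      rintro x (hx | rfl)
      · exact mem_centralizer_singleton_iff.2 ((S.mem_Z.1 hx).2 a ha).symm
      · exact mem_centralizer_singleton_iff.2 rfl)
    exact mem_centralizer_singleton_iff.1 (hle hbA)

/-- An element of `R` commuting with a non-central one lies in its span with the centre. -/
theorem mem_span_of_comm {a x : X} (ha : a ∈ S.R) (hx : x ∈ S.R) (haZ : a ∉ S.Z)
    (hax : x * a = a * x) : x ∈ closure ((S.Z : Set X) ∪ {a}) := by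
  by_contra hxA
  obtain ⟨b, hb, hba⟩ := S.exists_not_comm ha haZ
  have h3 : closure ((S.Z : Set X) ∪ {a, x}) ≤ centralizer {a} := (closure_le _).2 (by
    rintro y (hy | rfl | rfl)
    · exact mem_centralizer_singleton_iff.2 ((S.mem_Z.1 hy).2 a ha).symm
    · exact mem_centralizer_singleton_iff.2 rfl
    · exact mem_centralizer_singleton_iff.2 hax)
  have hR : closure ((S.Z : Set X) ∪ {a, x}) = S.R := by
    refine S.eq_R_of_lt (A := closure ((S.Z : Set X) ∪ {a})) ?_ ?_ ((closure_le _).2 ?_)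
    · refine lt_of_le_of_ne (fun y hy => subset_closure (Or.inl hy)) fun h => haZ ?_
      rw [h]; exact subset_closure (Or.inr rfl)
    · refine lt_of_le_of_ne (closure_mono (Set.union_subset_union_right _ (by simp))) fun h => hxA ?_
      rw [h]; exact subset_closure (Or.inr (Or.inr rfl))
    · rintro y (hy | rfl | rfl)
      exacts [S.Z_le hy, ha, hx]
  exact hba (mem_centralizer_singleton_iff.1 (h3 (hR ▸ hb)))

/-! ### The centre of `R` is central, and the centralizer of `R` -/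

theorem Z_pow_three {z : X} (hz : z ∈ S.Z) : z ^ 3 = 1 := S.exp_R z (S.Z_le hz)

theorem conj_sq_fix (g : X) {z : X} (hz : z ∈ S.Z) : g ^ 2 * z * (g ^ 2)⁻¹ = z := by
  -- the three elements of the centre are permuted, fixing the identity
  by_cases h1 : z = 1
  · simp [h1]
  have key : ∀ w ∈ S.Z, w ≠ 1 → w = z ∨ w = z⁻¹ := by
    intro w hw hw1
    have hord : orderOf z = 3 := orderOf_eq_prime (S.Z_pow_three hz) h1
    have htop : zpowers z = S.Z := Subgroup.eq_of_le_of_card_ge (zpowers_le.2 hz)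
      (by rw [Nat.card_zpowers, hord, S.card_Z'])
    rw [← htop] at hw
    obtain ⟨n, rfl⟩ := mem_zpowers_iff.1 hw
    rw [← zpow_mod_orderOf, hord] at hw1 ⊢
    obtain h | h | h : n % 3 = 0 ∨ n % 3 = 1 ∨ n % 3 = 2 := by omega
    · exact absurd (by push_cast; rw [h, zpow_zero]) hw1
    · left; push_cast; rw [h, zpow_one]
    · right
      push_cast
      rw [h, eq_inv_iff_mul_eq_one, ← zpow_add_one]
      simpa using S.Z_pow_three hz
  have hne : g * z * g⁻¹ ≠ 1 := fun h => h1 (by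
    have := congrArg (fun x => g⁻¹ * x * g) h
    simpa [mul_assoc] using this)
  rw [show g ^ 2 * z * (g ^ 2)⁻¹ = g * (g * z * g⁻¹) * g⁻¹ by simp [sq, mul_assoc]]
  rcases key _ (S.Z_conj g hz) hne with h | h
  · rw [h, h]
  · rw [h, show g * z⁻¹ * g⁻¹ = (g * z * g⁻¹)⁻¹ by group, h, inv_inv]

theorem Z_central (g : X) {z : X} (hz : z ∈ S.Z) : g * z = z * g := by
  obtain ⟨h, k, hhk⟩ := sl3_sq_sq (S.π g)
  obtain ⟨x, rfl⟩ := S.surj h
  obtain ⟨y, rfl⟩ := S.surj k
  have hr : (x ^ 2 * y ^ 2)⁻¹ * g ∈ S.R := S.mem_R.2 (by simp [hhk, mul_assoc])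
  have h2 : x ^ 2 * z = z * x ^ 2 := mul_inv_eq_iff_eq_mul.1 (S.conj_sq_fix x hz)
  have h3 : y ^ 2 * z = z * y ^ 2 := mul_inv_eq_iff_eq_mul.1 (S.conj_sq_fix y hz)
  have h4 := (S.mem_Z.1 hz).2 _ hr
  have h5 : Commute (x ^ 2 * y ^ 2 * ((x ^ 2 * y ^ 2)⁻¹ * g)) z :=
    (Commute.mul_left h2 h3).mul_left h4
  rwa [mul_inv_cancel_left] at h5

theorem commute_Z (g : X) {z : X} (hz : z ∈ S.Z) : Commute g z := S.Z_central g hz

theorem invol_not_centralizes {j : X} (hj : j ^ 2 = 1) (hπ : S.π j = -1) :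
    ¬ ∀ r ∈ S.R, j * r = r * j := by
  intro hc
  have hcent : ∀ g : X, g * j * g⁻¹ = j := by
    intro g
    have hr : g * j * g⁻¹ * j⁻¹ ∈ S.R := S.mem_R.2 (by
      simp only [map_mul, map_inv, hπ]
      generalize S.π g = a
      revert a; decide +kernel)
    set r := g * j * g⁻¹ * j⁻¹ with hr0
    have h1 : (r * j) ^ 2 = 1 := by
      rw [hr0, inv_mul_cancel_right, conj_pow, hj]; simp
    rw [(show Commute r j from (hc r hr).symm).mul_pow, hj, mul_one] at h1
    have h2 : r = 1 := by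
      have := S.exp_R r hr
      rwa [pow_succ, h1, one_mul] at this
    exact eq_of_mul_inv_eq_one h2
  have hn : (zpowers j).Normal := ⟨fun n hn g => by
    obtain ⟨i, rfl⟩ := mem_zpowers_iff.1 hn
    rw [← conj_zpow, hcent]
    exact zpow_mem (mem_zpowers j) i⟩
  have hord : orderOf j = 2 := orderOf_eq_prime hj fun h => sl3_neg_one_ne (by rw [← hπ, h, map_one])
  have h2 := S.no_two _ hn (IsPGroup.of_card (n := 1) (by rw [Nat.card_zpowers, hord]; norm_num))
  have h3 : j = 1 := by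
    rw [← mem_bot, ← h2]; exact mem_zpowers j
  rw [h3, orderOf_one] at hord
  omega

/-- An involution over `-1`. -/
theorem exists_invol : ∃ j : X, j ^ 2 = 1 ∧ S.π j = -1 := by
  obtain ⟨y, hy⟩ := S.surj (-1)
  refine ⟨y ^ 3, ?_, by rw [map_pow, hy]; decide +kernel⟩
  rw [← pow_mul, show 3 * 2 = 2 * 3 by norm_num, pow_mul]
  exact S.exp_R _ (S.mem_R.2 (by rw [map_pow, hy]; decide +kernel))

theorem centralizer_R_le {x : X} (hx : ∀ r ∈ S.R, x * r = r * x) : x ∈ S.Z := by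
  by_cases h1 : S.π x = 1
  · exact S.mem_Z.2 ⟨S.mem_R.2 h1, fun r hr => (hx r hr).symm⟩
  exfalso
  have hCn : (centralizer (S.R : Set X)).Normal := by
    haveI := S.normal_R; infer_instance
  have hxC : x ∈ centralizer (S.R : Set X) := mem_centralizer_iff.2 fun r hr => (hx r hr).symm
  obtain ⟨y, hyC, hy⟩ : ∃ y ∈ centralizer (S.R : Set X), S.π y = -1 := by
    rcases sl3_neg_one_mem _ h1 with h | ⟨h, hh⟩
    · exact ⟨x, hxC, h⟩
    obtain ⟨v, rfl⟩ := S.surj h
    have hk : x * v * x⁻¹ * v⁻¹ ∈ centralizer (S.R : Set X) := by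
      rw [show x * v * x⁻¹ * v⁻¹ = x * (v * x⁻¹ * v⁻¹) by group]
      exact mul_mem hxC (hCn.conj_mem _ (inv_mem hxC) v)
    rcases hh with hh | hh
    · exact ⟨_, pow_mem hk 2, by simpa using hh⟩
    · exact ⟨_, hk, by simpa using hh⟩
  refine S.invol_not_centralizes (j := y ^ 3) ?_ (by rw [map_pow, hy]; decide +kernel)
    fun r hr => (mem_centralizer_iff.1 (pow_mem hyC 3) r hr).symm
  rw [← pow_mul, show 3 * 2 = 2 * 3 by norm_num, pow_mul]
  exact S.exp_R _ (S.mem_R.2 (by rw [map_pow, hy]; decide +kernel))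

/-! ### The involution -/

/-- The chosen involution. -/
noncomputable def j : X := S.exists_invol.choose

theorem j_sq : S.j ^ 2 = 1 := S.exists_invol.choose_spec.1

theorem j_mul_j : S.j * S.j = 1 := by rw [← sq, S.j_sq]

theorem π_j : S.π S.j = -1 := S.exists_invol.choose_spec.2

theorem j_inv : S.j⁻¹ = S.j := inv_eq_of_mul_eq_one_left S.j_mul_j

/-- Conjugation by the involution. -/
noncomputable def cj (x : X) : X := MulAut.conj S.j x

theorem cj_def (x : X) : S.cj x = S.j * x * S.j := by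
  show S.j * x * S.j⁻¹ = _
  rw [S.j_inv]

theorem cj_mul (x y : X) : S.cj (x * y) = S.cj x * S.cj y := map_mul _ _ _

theorem cj_inv (x : X) : S.cj x⁻¹ = (S.cj x)⁻¹ := map_inv _ _

theorem cj_cj (x : X) : S.cj (S.cj x) = x := by
  rw [cj_def, cj_def, show S.j * (S.j * x * S.j) * S.j = (S.j * S.j) * x * (S.j * S.j) by group,
    S.j_mul_j]
  simp

theorem cj_mem {x : X} (hx : x ∈ S.R) : S.cj x ∈ S.R := S.conj_R _ hx

theorem cj_Z {z : X} (hz : z ∈ S.Z) : S.cj z = z := by
  rw [cj_def, S.Z_central S.j hz, mul_assoc, S.j_mul_j, mul_one]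

theorem cj_fix_iff {x : X} : S.cj x = x ↔ S.j * x = x * S.j := by
  rw [cj_def]
  constructor
  · intro h
    calc S.j * x = S.j * x * S.j * S.j := by rw [mul_assoc, S.j_mul_j, mul_one]
      _ = _ := by rw [h]
  · intro h
    rw [h, mul_assoc, S.j_mul_j, mul_one]

theorem fix_of_mod {x z : X} (hz : z ∈ S.Z) (h : S.cj x = x * z) : z = 1 := by
  have h1 := congrArg S.cj h
  rw [S.cj_cj, S.cj_mul, h, S.cj_Z hz, mul_assoc] at h1
  have h2 : z * z = 1 := mul_eq_left.1 h1.symm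
  have := S.Z_pow_three hz
  rwa [pow_succ, sq, h2, one_mul] at this

theorem fix_mem_Z {k : X} (hk : k ∈ S.R) (hf : S.cj k = k) : k ∈ S.Z := by
  by_contra hkZ
  obtain ⟨r, hr, hrk⟩ := S.exists_not_comm hk hkZ
  -- the product of an element and its conjugate is fixed
  set g := r * S.cj r with hg
  have hgR : g ∈ S.R := mul_mem hr (S.cj_mem hr)
  have hgf : S.cj g = g := by
    have hz := S.comm_mem_Z (inv_mem (S.cj_mem hr)) (inv_mem hr)
    have hc := S.fix_of_mod hz (x := g) (by rw [hg, S.cj_mul, S.cj_cj]; group)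
    rw [hg, S.cj_mul, S.cj_cj]
    calc S.cj r * r = r * S.cj r * ((S.cj r)⁻¹ * r⁻¹ * (S.cj r)⁻¹⁻¹ * r⁻¹⁻¹) := by group
      _ = _ := by rw [hc, mul_one]
  by_cases hgk : g * k = k * g
  · -- then conjugation inverts the commutator
    have hz := S.comm_mem_Z hk hr
    set z := k * r * k⁻¹ * r⁻¹ with hz0
    have hkr : k * r = z * r * k := by rw [hz0]; group
    have hcr : S.cj r = r⁻¹ * g := by rw [hg]; group
    have h1 : k * (r⁻¹ * g) = z * (r⁻¹ * g) * k := by
      have := congrArg S.cj hkr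
      rwa [S.cj_mul, S.cj_mul, S.cj_mul, hf, S.cj_Z hz, hcr] at this
    have h1a : k * r⁻¹ * g = z * r⁻¹ * k * g := by
      calc k * r⁻¹ * g = k * (r⁻¹ * g) := by group
        _ = z * r⁻¹ * (g * k) := by rw [h1]; group
        _ = _ := by rw [hgk]; group
    have h1b : k * r⁻¹ = z * r⁻¹ * k := mul_right_cancel h1a
    have h2 : k = (z * z) * k := by
      calc k = k * r * r⁻¹ := by group
        _ = z * r * (k * r⁻¹) := by rw [hkr]; group
        _ = z * r * z * r⁻¹ * k := by rw [h1b]; group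
        _ = _ := by rw [mul_assoc z r z, S.Z_central r hz]; group
    have h3 : z * z = 1 := mul_eq_right.1 h2.symm
    have h4 : z = 1 := by
      have := S.Z_pow_three hz
      rwa [pow_succ, sq, h3, one_mul] at this
    rw [h4, one_mul] at hkr
    exact hrk hkr.symm
  · -- otherwise the involution centralises `R`
    refine S.invol_not_centralizes S.j_sq S.π_j fun y hy => S.cj_fix_iff.1 ?_
    have hy' : y ∈ closure ((S.Z : Set X) ∪ {k, g}) := by rwa [S.closure_pair hk hgR hgk]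
    let f : X →* X := (MulAut.conj S.j).toMonoidHom
    exact MonoidHom.eqOn_closure (f := f) (g := MonoidHom.id X) (by
      rintro t (ht | rfl | rfl)
      exacts [S.cj_Z ht, hf, hgf]) hy'

theorem mul_cj_mem {r : X} (hr : r ∈ S.R) : r * S.cj r ∈ S.Z := by
  have hgR : r * S.cj r ∈ S.R := mul_mem hr (S.cj_mem hr)
  refine S.fix_mem_Z hgR ?_
  have hz := S.comm_mem_Z (inv_mem (S.cj_mem hr)) (inv_mem hr)
  have hc := S.fix_of_mod hz (x := r * S.cj r) (by rw [S.cj_mul, S.cj_cj]; group)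
  rw [S.cj_mul, S.cj_cj]
  calc S.cj r * r = r * S.cj r * ((S.cj r)⁻¹ * r⁻¹ * (S.cj r)⁻¹⁻¹ * r⁻¹⁻¹) := by group
    _ = _ := by rw [hc, mul_one]

theorem exists_inverted {r : X} (hr : r ∈ S.R) :
    ∃ z ∈ S.Z, S.cj (r * z) = (r * z)⁻¹ := by
  have hz := S.mul_cj_mem hr
  refine ⟨r * S.cj r, hz, ?_⟩
  set z := r * S.cj r with hz0
  have hzr := S.Z_central r hz
  have h3 := S.Z_pow_three hz
  have hcr : S.cj r = r⁻¹ * z := by rw [hz0]; group
  rw [S.cj_mul, S.cj_Z hz, hcr, mul_inv_rev]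
  have hzi : z⁻¹ = z * z := inv_eq_of_mul_eq_one_left (by rw [← h3, pow_succ, sq])
  rw [hzi, mul_assoc r⁻¹]
  exact ((S.commute_Z r⁻¹ (mul_mem hz hz))).eq

/-! ### The complement -/

/-- The centralizer of the involution. -/
def C : Subgroup X := centralizer {S.j}

theorem mem_C {x : X} : x ∈ S.C ↔ S.cj x = x := by
  rw [C, mem_centralizer_singleton_iff, S.cj_fix_iff]
  exact ⟨Eq.symm, Eq.symm⟩

theorem C_inter {x : X} (hC : x ∈ S.C) (hR : x ∈ S.R) : x ∈ S.Z :=
  S.fix_mem_Z hR (S.mem_C.1 hC)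

theorem Z_le_C : S.Z ≤ S.C := fun _ h => S.mem_C.2 (S.cj_Z h)

theorem exists_decomp (x : X) : ∃ r ∈ S.R, r⁻¹ * x ∈ S.C := by
  set u := x * S.j * x⁻¹ * S.j with hu
  have huR : u ∈ S.R := S.mem_R.2 (by
    rw [hu]; simp only [map_mul, map_inv, S.π_j]
    generalize S.π x = a
    revert a; decide +kernel)
  have hinv : S.cj u = u⁻¹ := by
    rw [cj_def, hu, mul_inv_rev, mul_inv_rev, mul_inv_rev, inv_inv, S.j_inv,
      show S.j * (x * S.j * x⁻¹ * S.j) * S.j = S.j * (x * S.j * x⁻¹) * (S.j * S.j) by group,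
      S.j_mul_j, mul_one]
    group
  refine ⟨u * u, mul_mem huR huR, ?_⟩
  rw [C, mem_centralizer_singleton_iff]
  have h3 : u * u * u = 1 := by rw [← S.exp_R u huR, pow_succ, sq]
  have hxj : x * S.j * x⁻¹ = u * S.j := by
    rw [hu, mul_assoc _ S.j S.j, S.j_mul_j, mul_one]
  have hju : S.j * u = u⁻¹ * S.j := by
    have := congrArg (· * S.j) hinv
    simp only [cj_def] at this
    rwa [mul_assoc, S.j_mul_j, mul_one] at this
  calc (u * u)⁻¹ * x * S.j = (u * u)⁻¹ * (x * S.j * x⁻¹) * x := by group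
    _ = u⁻¹ * S.j * x := by rw [hxj]; group
    _ = S.j * u * x := by rw [hju]
    _ = S.j * ((u * u)⁻¹ * x) := by
      rw [inv_eq_of_mul_eq_one_right h3]; group

theorem exists_order_three : ∃ w ∈ S.C, w ^ 3 = 1 ∧ S.π w ≠ 1 := by
  obtain ⟨E, hEc, hEexp, hEcard⟩ := S.exists_elem
  have hcomm : ∀ a ∈ E, ∀ b ∈ E, a * b = b * a := fun a ha b hb =>
    congrArg Subtype.val (hEc.is_comm.comm (⟨a, ha⟩ : E) ⟨b, hb⟩)
  obtain ⟨e, he, heR⟩ : ∃ e ∈ E, e ∉ S.R := by
    by_contra h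
    push_neg at h
    have hER : E = S.R := Subgroup.eq_of_le_of_card_ge h (by rw [hEcard, S.card_R])
    have hZ : S.R ≤ S.Z := fun x hx => S.mem_Z.2 ⟨hx, fun r hr => hcomm r (hER ▸ hr) x (hER ▸ hx)⟩
    have := Subgroup.card_le_of_le hZ
    rw [S.card_R, S.card_Z'] at this
    omega
  -- the intersection is not central
  obtain ⟨d, hdE, hdR, hdZ⟩ : ∃ d ∈ E, d ∈ S.R ∧ d ∉ S.Z := by
    by_contra h
    push_neg at h
    let f : E →* SL3 := S.π.comp E.subtype
    have h1 := Subgroup.card_mul_index f.ker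
    rw [hEcard, Subgroup.index_ker] at h1
    have hk : f.ker.map E.subtype ≤ S.Z := by
      rintro _ ⟨x, hx, rfl⟩
      exact h x.1 x.2 (S.mem_R.2 hx)
    have h2 := Subgroup.card_le_of_le hk
    rw [Subgroup.card_map_of_injective E.subtype_injective, S.card_Z'] at h2
    have h3 : Nat.card f.range ∣ Nat.gcd 27 24 := by
      refine Nat.dvd_gcd ?_ ?_
      · rw [← h1]; exact dvd_mul_left _ _
      · rw [← sl3_card]; exact Subgroup.card_subgroup_dvd_card _
    have h4 : Nat.card f.range ≤ 3 := Nat.le_of_dvd (by norm_num) h3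
    have h5 := Nat.mul_le_mul h2 h4
    omega
  obtain ⟨z, hz, hinv⟩ := S.exists_inverted hdR
  set d' := d * z with hd'
  have hd'R : d' ∈ S.R := mul_mem hdR (S.Z_le hz)
  have hd'Z : d' ∉ S.Z := fun h => hdZ (by
    simpa [hd'] using mul_mem h (inv_mem hz))
  have hed : Commute e d' := (show Commute e d from hcomm e he d hdE).mul_right (S.commute_Z e hz)
  obtain ⟨r, hr, hw⟩ := S.exists_decomp e
  set w := r⁻¹ * e with hw0
  -- `w` centralises `d'`
  have hzz := S.comm_mem_Z (inv_mem hr) hd'R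
  have hwd : w * d' * w⁻¹ * d'⁻¹ = r⁻¹ * d' * r⁻¹⁻¹ * d'⁻¹ := by
    rw [hw0, show r⁻¹ * e * d' = r⁻¹ * (e * d') by group, hed.eq]; group
  have hwd1 : w * d' * w⁻¹ * d'⁻¹ = 1 := by
    set z2 := w * d' * w⁻¹ * d'⁻¹ with hz2
    have hz2Z : z2 ∈ S.Z := hwd ▸ hzz
    have h1 : w * d' * w⁻¹ = d' * z2 := by
      rw [S.Z_central d' hz2Z, hz2]; group
    have h2 := congrArg S.cj h1
    rw [S.cj_mul, S.cj_mul, S.cj_inv, S.mem_C.1 hw, hinv, S.cj_mul, hinv, S.cj_Z hz2Z] at h2
    have h3 : w * d'⁻¹ * w⁻¹ = (d' * z2)⁻¹ := by rw [← h1]; group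
    rw [h3, mul_inv_rev] at h2
    have h4 : z2⁻¹ = z2 := by
      rw [S.Z_central d'⁻¹ hz2Z] at h2
      exact mul_right_cancel h2
    have h5 : z2 * z2 = 1 := by nth_rw 1 [← h4]; exact inv_mul_cancel z2
    have := S.Z_pow_three hz2Z
    rwa [pow_succ, sq, h5, one_mul] at this
  have hwd2 : Commute w d' := mul_inv_eq_iff_eq_mul.1 (mul_inv_eq_one.1 hwd1)
  have hrd : Commute r d' := by
    have h : Commute (e * w⁻¹) d' := hed.mul_left hwd2.inv_left
    rwa [hw0, mul_inv_rev, inv_inv, mul_inv_cancel_left] at h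
  have hrA := S.mem_span_of_comm hd'R hr hd'Z hrd
  have hwr : Commute r w := by
    have hle : closure ((S.Z : Set X) ∪ {d'}) ≤ centralizer {w} := (closure_le _).2 (by
      rintro y (hy | rfl)
      · exact mem_centralizer_singleton_iff.2 (S.Z_central w hy).symm
      · exact mem_centralizer_singleton_iff.2 hwd2.symm)
    exact mem_centralizer_singleton_iff.1 (hle hrA)
  refine ⟨w, hw, ?_, fun h => heR ?_⟩
  · have h : (r * w) ^ 3 = 1 := by rw [hw0, mul_inv_cancel_left]; exact hEexp e he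
    rwa [hwr.mul_pow, S.exp_R r hr, one_mul] at h
  · rw [hw0, map_mul, map_inv, S.mem_R.1 hr] at h
    exact S.mem_R.2 (by simpa using h)

theorem exists_complement : ∃ L : Subgroup X, L ≤ S.C ∧ Nat.card L = 24 ∧
    ∀ x ∈ L, x ∈ S.R → x = 1 := by
  obtain ⟨w, hwC, hw3, hwπ⟩ := S.exists_order_three
  let f : S.C →* SL3 := S.π.comp S.C.subtype
  have hf : Function.Surjective f := by
    intro g
    obtain ⟨x, rfl⟩ := S.surj g
    obtain ⟨r, hr, hrx⟩ := S.exists_decomp x
    exact ⟨⟨_, hrx⟩, by simp [f, S.mem_R.1 hr]⟩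
  have hker : f.ker.map S.C.subtype = S.Z := by
    refine le_antisymm ?_ fun z hz => ⟨⟨z, S.Z_le_C hz⟩, S.mem_R.1 (S.Z_le hz), rfl⟩
    rintro _ ⟨x, hx, rfl⟩
    exact S.C_inter x.2 (S.mem_R.2 hx)
  have hker3 : Nat.card f.ker = 3 := by
    rw [← Subgroup.card_map_of_injective S.C.subtype_injective, hker, S.card_Z']
  have hC : Nat.card S.C = 72 := by
    rw [← Subgroup.card_mul_index f.ker, hker3, Subgroup.index_ker,
      MonoidHom.range_eq_top.2 hf, Subgroup.card_top, sl3_card]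
  haveI : Fact (Nat.Prime 2) := ⟨Nat.prime_two⟩
  haveI : Fact (Nat.Prime 3) := ⟨Nat.prime_three⟩
  obtain ⟨Q, hQ⟩ := Sylow.exists_subgroup_card_pow_prime 2 (G := S.C) (n := 3) (by rw [hC]; norm_num)
  norm_num at hQ
  have hQinj : Set.InjOn f Q := by
    intro a ha b hb hab
    have hk : a * b⁻¹ ∈ Q ⊓ f.ker := ⟨Q.mul_mem ha (Q.inv_mem hb), by
      show f (a * b⁻¹) = 1
      rw [map_mul, map_inv, hab, mul_inv_cancel]⟩
    rw [disjoint_iff.1 (Subgroup.disjoint_of_coprime_natCard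
      (by rw [hQ, hker3]; norm_num)), mem_bot] at hk
    exact mul_inv_eq_one.1 hk
  have hQ4 : ∀ a : S.C, f a ^ 4 = 1 → a ^ 8 = 1 → a ∈ Q := by
    intro a ha ha8
    classical
    have himg : Q.map f = Q.map f ∧ Nat.card (Q.map f) = 8 := by
      refine ⟨rfl, ?_⟩
      have : Nat.card ((Q.map f : Subgroup SL3) : Set SL3) = Nat.card (Q : Set S.C) := by
        rw [Subgroup.coe_map]
        exact Nat.card_image_of_injOn hQinj
      exact this.trans hQ
    have hsub : ((Q.map f : Subgroup SL3) : Set SL3).toFinset =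
        Finset.univ.filter fun g : SL3 => g ^ 4 = 1 := by
      refine Finset.eq_of_subset_of_card_le (fun g hg => ?_) ?_
      · simp only [Set.mem_toFinset, SetLike.mem_coe] at hg
        have h8 : g ^ 8 = 1 := by
          have := pow_card_eq_one' (G := Q.map f) (x := ⟨g, hg⟩)
          rw [himg.2] at this
          simpa using congrArg Subtype.val this
        simp only [Finset.mem_filter, Finset.mem_univ, true_and]
        exact (by decide +kernel : ∀ t : SL3, t ^ 8 = 1 → t ^ 4 = 1) g h8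
      · rw [sl3_four, Set.toFinset_card, ← Nat.card_eq_fintype_card]
        exact himg.2.ge
    have hm : f a ∈ ((Q.map f : Subgroup SL3) : Set SL3).toFinset := by rw [hsub]; simp [ha]
    obtain ⟨q, hq, hqa⟩ := (Set.mem_toFinset.1 hm : f a ∈ Q.map f)
    have hk : q⁻¹ * a ∈ f.ker := by
      show f (q⁻¹ * a) = 1
      rw [map_mul, map_inv, hqa, inv_mul_cancel]
    set z := q⁻¹ * a with hz0
    have hzc : Commute q z := Subtype.ext (S.Z_central q.1 (hker ▸ ⟨z, hk, rfl⟩))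
    have h3 : z ^ 3 = 1 := by
      have := pow_card_eq_one' (G := f.ker) (x := ⟨z, hk⟩)
      rw [hker3] at this
      simpa using congrArg Subtype.val this
    have hq8 : q ^ 8 = 1 := by
      have := pow_card_eq_one' (G := Q) (x := ⟨q, hq⟩)
      rw [hQ] at this
      simpa using congrArg Subtype.val this
    have ha' : a = q * z := by rw [hz0]; group
    rw [ha', hzc.mul_pow, hq8, one_mul] at ha8
    have hz1 : z = 1 := by
      rw [← pow_one z, show (1 : ℕ) = Nat.gcd 8 3 by norm_num]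
      exact pow_gcd_eq_one.2 ⟨ha8, h3⟩
    rw [ha', hz1, mul_one]; exact hq
  have hnorm : zpowers (⟨w, hwC⟩ : S.C) ≤ normalizer (Q : Set S.C) := by
    rw [zpowers_le]
    refine mem_normalizer_iff.2 fun q => ?_
    have hq8 : ∀ q ∈ Q, q ^ 8 = 1 := fun q hq => by
      have := pow_card_eq_one' (G := Q) (x := ⟨q, hq⟩)
      rw [hQ] at this
      simpa using congrArg Subtype.val this
    have hc : ∀ (g : S.C), ∀ q ∈ Q, g * q * g⁻¹ ∈ Q := fun g q hq => by
      refine hQ4 _ ?_ (by rw [conj_pow, hq8 q hq]; simp)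
      rw [map_mul, map_mul, map_inv, conj_pow]
      have h8 : f q ^ 8 = 1 := by rw [← map_pow, hq8 q hq, map_one]
      have h4 : f q ^ 4 = 1 := (by decide +kernel : ∀ t : SL3, t ^ 8 = 1 → t ^ 4 = 1) _ h8
      rw [h4]; simp
    exact ⟨hc _ q, fun h => by simpa [mul_assoc] using hc (⟨w, hwC⟩ : S.C)⁻¹ _ h⟩
  set w' : S.C := ⟨w, hwC⟩
  have hw'o : orderOf w' = 3 := orderOf_eq_prime (Subtype.ext hw3) fun h => hwπ (by
    have : w = 1 := congrArg Subtype.val h
    rw [this, map_one])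
  have hdis : Disjoint Q (zpowers w') := Subgroup.disjoint_of_coprime_natCard
    (by rw [hQ, Nat.card_zpowers, hw'o]; norm_num)
  set L := Q ⊔ zpowers w' with hL
  have hmemL : ∀ x ∈ L, ∃ q ∈ Q, ∃ n ∈ zpowers w', x = q * n := by
    intro x hx
    rw [hL, ← SetLike.mem_coe, coe_mul_of_right_le_normalizer_left _ _ hnorm] at hx
    obtain ⟨q, hq, n, hn, rfl⟩ := hx
    exact ⟨q, hq, n, hn, rfl⟩
  have hLR : ∀ x ∈ L, f x = 1 → x = 1 := by
    intro x hx hfx
    obtain ⟨q, hq, n, hn, rfl⟩ := hmemL x hx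
    have h1 : f q ∈ Q.map f ⊓ (zpowers w').map f := by
      refine ⟨⟨q, hq, rfl⟩, ?_⟩
      rw [map_mul] at hfx
      rw [eq_inv_of_mul_eq_one_left hfx, ← map_inv]
      exact ⟨_, inv_mem hn, rfl⟩
    have hd : Disjoint (Q.map f) ((zpowers w').map f) := by
      refine Subgroup.disjoint_of_coprime_natCard (Nat.Coprime.coprime_dvd_left (Subgroup.card_map_dvd Q f)
        (Nat.Coprime.coprime_dvd_right (Subgroup.card_map_dvd _ f) ?_))
      rw [hQ, Nat.card_zpowers, hw'o]; norm_num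
    rw [disjoint_iff.1 hd, mem_bot] at h1
    have hq1 : q = 1 := hQinj hq Q.one_mem (by rw [h1, map_one])
    subst hq1
    rw [one_mul] at hfx ⊢
    obtain ⟨i, rfl⟩ := mem_zpowers_iff.1 hn
    have hfw : orderOf (f w') = 3 := orderOf_eq_prime (by rw [← map_pow, show w' ^ 3 = 1 from Subtype.ext hw3, map_one]) hwπ
    rw [map_zpow, ← orderOf_dvd_iff_zpow_eq_one, hfw, ← hw'o, orderOf_dvd_iff_zpow_eq_one] at hfx
    exact hfx
  refine ⟨L.map S.C.subtype, map_subtype_le _, ?_, ?_⟩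
  · rw [Subgroup.card_map_of_injective S.C.subtype_injective]
    refine Nat.eq_of_le_of_lt_succ ?_ ?_
    · have h8 : 8 ∣ Nat.card L := hQ ▸ Subgroup.card_dvd_of_le le_sup_left
      have h3 : 3 ∣ Nat.card L := by
        rw [← hw'o, ← Nat.card_zpowers]; exact Subgroup.card_dvd_of_le le_sup_right
      exact Nat.le_of_dvd Nat.card_pos ((show Nat.Coprime 8 3 by norm_num).mul_dvd_of_dvd_of_dvd h8 h3)
    · have hinj : Function.Injective (f.comp L.subtype) := (injective_iff_map_eq_one _).2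
        fun x hx => Subtype.ext (hLR x.1 x.2 hx)
      have := Nat.card_le_card_of_injective _ hinj
      rw [sl3_card] at this
      omega
  · rintro _ ⟨x, hx, rfl⟩ hR
    exact congrArg Subtype.val (hLR x hx (S.mem_R.1 hR))

end Setting

end CfsgLib.Char.ShapePSpFourThree
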