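import Mathlib
import Cfsg.Agent.Lib.Char.ShapePSpFourThree.Local
import Cfsg.Agent.Lib.Char.ShapePSpFourThree.Model

/-!
A group of shape `3^(1+2)·SL₂(3)` with an elementary abelian subgroup of order 27 is the stabiliser
of a vector in `Sp₄(3)`.
-/

set_option autoImplicit false
set_option linter.unusedSectionVars false

namespace CfsgLib.Char.ShapePSpFourThree

open Subgroup CfsgLib.Sp CfsgLib.Char.SpAmalgam
open scoped Matrix

/-- Powers of an element with exponents in a ring of three elements. -/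
def pw {G : Type*} [Monoid G] (a : G) (p : ZMod 3) : G := a ^ p.val

section Pow

variable {G : Type*} [Group G] {a b : G}

theorem pw_zero : pw a 0 = 1 := by simp [pw]

theorem pw_add (ha : a ^ 3 = 1) (p q : ZMod 3) : pw a (p + q) = pw a p * pw a q := by
  rw [pw, pw, pw, ← pow_add, ZMod.val_add, ← pow_eq_pow_mod _ ha]

theorem pw_one : pw a 1 = a := by rw [pw, show (1 : ZMod 3).val = 1 from rfl, pow_one]

theorem pw_nat (ha : a ^ 3 = 1) (n : ℕ) : pw a (n : ZMod 3) = a ^ n := by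
  rw [pw, ZMod.val_natCast, ← pow_eq_pow_mod _ ha]

theorem pw_neg (ha : a ^ 3 = 1) (p : ZMod 3) : pw a (-p) = (pw a p)⁻¹ :=
  eq_inv_of_mul_eq_one_left (by rw [← pw_add ha, neg_add_cancel, pw_zero])

theorem pw_pow (ha : a ^ 3 = 1) (p : ZMod 3) (n : ℕ) : pw a p ^ n = pw a (p * n) := by
  conv_lhs => rw [pw, ← pow_mul]
  rw [← pw_nat ha]
  simp

theorem pw_conj (g : G) (p : ZMod 3) : g * pw a p * g⁻¹ = pw (g * a * g⁻¹) p := by
  rw [pw, pw, conj_pow]

theorem pw_comm {κ : G} (hκ : κ ^ 3 = 1) (hca : Commute κ a) (hcb : Commute κ b)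
    (h : b * a = a * b * κ) (p q : ZMod 3) :
    pw b q * pw a p = pw a p * pw b q * pw κ (q * p) := by
  have h1 : ∀ n : ℕ, b ^ n * a = a * b ^ n * κ ^ n := by
    intro n
    induction n with
    | zero => simp
    | succ n ih =>
      calc b ^ (n + 1) * a = b ^ n * (b * a) := by rw [pow_succ, mul_assoc]
        _ = b ^ n * a * (b * κ) := by rw [h]; group
        _ = a * b ^ n * (κ ^ n * b) * κ := by rw [ih]; group
        _ = a * b ^ n * (b * κ ^ n) * κ := by rw [(hcb.pow_left n).eq]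
        _ = _ := by simp [pow_succ, mul_assoc]
  have h2 : ∀ n m : ℕ, b ^ n * a ^ m = a ^ m * b ^ n * κ ^ (n * m) := by
    intro n m
    induction m with
    | zero => simp
    | succ m ih =>
      calc b ^ n * a ^ (m + 1) = b ^ n * a ^ m * a := by rw [pow_succ, mul_assoc]
        _ = a ^ m * b ^ n * (κ ^ (n * m) * a) := by rw [ih]; group
        _ = a ^ m * (b ^ n * a) * κ ^ (n * m) := by rw [(hca.pow_left _).eq]; group
        _ = a ^ m * (a * b ^ n * κ ^ n) * κ ^ (n * m) := by rw [h1]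
        _ = a ^ (m + 1) * b ^ n * (κ ^ n * κ ^ (n * m)) := by rw [pow_succ]; group
        _ = _ := by rw [← pow_add]; ring_nf
  rw [show q * p = ((q.val * p.val : ℕ) : ZMod 3) by simp, pw_nat hκ]
  exact h2 _ _

end Pow

variable {X : Type*} [Group X] [Finite X] (S : Setting X)

namespace Setting

theorem exists_basis : ∃ a b : X, a ∈ S.R ∧ b ∈ S.R ∧ S.cj a = a⁻¹ ∧ S.cj b = b⁻¹ ∧
    b * a ≠ a * b := by
  obtain ⟨a0, ha0, ha0Z⟩ : ∃ a ∈ S.R, a ∉ S.Z := by
    by_contra h
    push_neg at h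
    have := Subgroup.card_le_of_le (show S.R ≤ S.Z from h)
    rw [S.card_R, S.card_Z'] at this
    omega
  obtain ⟨b0, hb0, hab⟩ := S.exists_not_comm ha0 ha0Z
  obtain ⟨z, hz, hza⟩ := S.exists_inverted ha0
  obtain ⟨y, hy, hyb⟩ := S.exists_inverted hb0
  refine ⟨a0 * z, b0 * y, mul_mem ha0 (S.Z_le hz), mul_mem hb0 (S.Z_le hy), hza, hyb,
    fun h => hab ?_⟩
  have hc : Commute (b0 * y * y⁻¹) (a0 * z * z⁻¹) :=
    ((show Commute (b0 * y) (a0 * z) from h).mul_left (S.commute_Z _ (inv_mem hy)).symm).mul_right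
      (S.commute_Z _ (inv_mem hz))
  simpa using hc.eq

/-- First basis element. -/
noncomputable def a : X := S.exists_basis.choose

/-- Second basis element. -/
noncomputable def b : X := S.exists_basis.choose_spec.choose

theorem basis_spec : S.a ∈ S.R ∧ S.b ∈ S.R ∧ S.cj S.a = S.a⁻¹ ∧ S.cj S.b = S.b⁻¹ ∧
    S.b * S.a ≠ S.a * S.b := S.exists_basis.choose_spec.choose_spec

/-- The commutator. -/
noncomputable def κ : X := (S.a * S.b)⁻¹ * (S.b * S.a)

theorem κ_mem : S.κ ∈ S.Z := by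
  have h := S.comm_mem_Z (inv_mem S.basis_spec.2.1) (inv_mem S.basis_spec.1)
  have : S.κ = S.b⁻¹ * S.a⁻¹ * S.b⁻¹⁻¹ * S.a⁻¹⁻¹ := by rw [κ]; group
  rw [this]; exact h

theorem κ_ne : S.κ ≠ 1 := fun h => S.basis_spec.2.2.2.2 (inv_mul_eq_one.1 h).symm

theorem ba : S.b * S.a = S.a * S.b * S.κ := by rw [κ, mul_inv_cancel_left]

section Field

variable {F : Type*} [Field F] [Fintype F] (e : F ≃+* ZMod 3)

/-- The element of the normal subgroup with given parameters. -/
noncomputable def φ (t : F) (v : Vs 1 F) : X :=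
  pw S.a (e (v (.inl 0))) * pw S.b (e (v (.inr 0))) * pw S.κ (e t - e (v (.inl 0)) * e (v (.inr 0)))

theorem φ_mem (t : F) (v : Vs 1 F) : S.φ e t v ∈ S.R :=
  mul_mem (mul_mem (pow_mem S.basis_spec.1 _) (pow_mem S.basis_spec.2.1 _))
    (pow_mem (S.Z_le S.κ_mem) _)

omit [Fintype F] in
theorem sf_one (u v : Vs 1 F) : sf u v = u (.inr 0) * v (.inl 0) - u (.inl 0) * v (.inr 0) := by
  rw [sf_eq]; simp

theorem φ_mul (t t' : F) (u v : Vs 1 F) :
    S.φ e t u * S.φ e t' v = S.φ e (t + t' + sf v u) (u + v) := by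
  have ha := S.exp_R _ S.basis_spec.1
  have hb := S.exp_R _ S.basis_spec.2.1
  have hκ := S.Z_pow_three S.κ_mem
  have hc : ∀ (x : X) (p : ZMod 3), Commute x (pw S.κ p) := fun x p =>
    S.commute_Z x (pow_mem S.κ_mem _)
  unfold φ
  set p := e (u (.inl 0)) with hp
  set q := e (u (.inr 0)) with hq
  set p' := e (v (.inl 0)) with hp'
  set q' := e (v (.inr 0)) with hq'
  have hsf : e (sf v u) = q' * p - p' * q := by simp [sf_one, hp, hq, hp', hq']
  simp only [Pi.add_apply, map_add, ← hp, ← hq, ← hp', ← hq', hsf]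
  calc pw S.a p * pw S.b q * pw S.κ (e t - p * q) * (pw S.a p' * pw S.b q' * pw S.κ (e t' - p' * q'))
      = pw S.a p * pw S.b q * (pw S.a p' * pw S.b q') *
          (pw S.κ (e t - p * q) * pw S.κ (e t' - p' * q')) := by
        rw [mul_assoc (pw S.a p * pw S.b q), ← mul_assoc (pw S.κ _),
          ← (hc (pw S.a p' * pw S.b q') (e t - p * q)).eq]
        group
    _ = pw S.a p * (pw S.b q * pw S.a p') * pw S.b q' *
          (pw S.κ (e t - p * q) * pw S.κ (e t' - p' * q')) := by group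
    _ = pw S.a p * pw S.a p' * pw S.b q * (pw S.κ (q * p') * pw S.b q') *
          (pw S.κ (e t - p * q) * pw S.κ (e t' - p' * q')) := by
        rw [pw_comm hκ (S.commute_Z _ S.κ_mem).symm (S.commute_Z _ S.κ_mem).symm S.ba]; group
    _ = pw S.a (p + p') * pw S.b (q + q') *
          pw S.κ (q * p' + ((e t - p * q) + (e t' - p' * q'))) := by
        rw [pw_add ha, pw_add hb, pw_add hκ (q * p'), pw_add hκ (e t - p * q),
          ← (hc (pw S.b q') (q * p')).eq]
        group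
    _ = _ := by
      congr 2
      have h3 : (3 : ZMod 3) = 0 := rfl
      linear_combination (q * p') * h3

theorem φ_zero : S.φ e 0 0 = 1 := by simp [φ, pw_zero]

theorem φ_inv (t : F) (v : Vs 1 F) : (S.φ e t v)⁻¹ = S.φ e (-t) (-v) := by
  refine inv_eq_of_mul_eq_one_right ?_
  rw [φ_mul, ← φ_zero S e]
  congr 1
  · simp [sf_one]; ring
  · simp

theorem cj_φ (t : F) (v : Vs 1 F) : S.cj (S.φ e t v) = S.φ e t (-v) := by
  obtain ⟨haR, hbR, ha, hb, -⟩ := S.basis_spec
  have hz : S.cj (pw S.κ (e t - e (v (.inl 0)) * e (v (.inr 0)))) =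
      pw S.κ (e t - e (v (.inl 0)) * e (v (.inr 0))) := S.cj_Z (pow_mem S.κ_mem _)
  have h1 : ∀ p, S.cj (pw S.a p) = pw S.a (-p) := fun p => by
    rw [pw_neg (S.exp_R _ haR)]
    show MulAut.conj S.j (S.a ^ p.val) = _
    rw [map_pow, show MulAut.conj S.j S.a = S.a⁻¹ from ha, inv_pow]
    rfl
  have h2 : ∀ p, S.cj (pw S.b p) = pw S.b (-p) := fun p => by
    rw [pw_neg (S.exp_R _ hbR)]
    show MulAut.conj S.j (S.b ^ p.val) = _
    rw [map_pow, show MulAut.conj S.j S.b = S.b⁻¹ from hb, inv_pow]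
    rfl
  rw [φ, S.cj_mul, S.cj_mul, h1, h2, hz]
  simp [φ, neg_mul_neg]

theorem φ_eq_one {t : F} {v : Vs 1 F} (h : S.φ e t v = 1) : t = 0 ∧ v = 0 := by
  have hκ := S.Z_pow_three S.κ_mem
  -- first the vector
  have hv : v = 0 := by
    by_contra hv
    obtain ⟨w, hw⟩ := exists_sf_eq_one hv
    have h1 := S.φ_mul e t 0 v w
    have h2 := S.φ_mul e 0 t w v
    rw [h, one_mul] at h1
    rw [h, mul_one, h1, add_comm w v] at h2
    simp only [φ] at h2
    have h3 := mul_left_cancel h2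
    have h4 : pw S.κ (e (sf w v) - e (sf v w)) = 1 := by
      have he : e (sf w v) - e (sf v w) = (e (t + 0 + sf w v) - e ((v + w) (.inl 0)) * e ((v + w) (.inr 0))) +
          -(e (0 + t + sf v w) - e ((v + w) (.inl 0)) * e ((v + w) (.inr 0))) := by
        simp only [map_add, map_zero]; ring
      rw [he, pw_add hκ, pw_neg hκ, h3, mul_inv_cancel]
    rw [sf_swap v w, hw, map_neg, map_one, show (1 : ZMod 3) - -1 = 1 + 1 by ring, pw_add hκ,
      pw_one] at h4
    have := hκ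
    rw [pow_succ, sq, h4, one_mul] at this
    exact S.κ_ne this
  refine ⟨?_, hv⟩
  subst hv
  simp only [φ, Pi.zero_apply, map_zero, pw_zero, one_mul, zero_mul, sub_zero] at h
  apply e.injective
  rw [map_zero]
  generalize e t = s at h
  revert h
  obtain rfl | rfl | rfl := (by decide : ∀ s : ZMod 3, s = 0 ∨ s = 1 ∨ s = 2) s
  · intro _; rfl
  · intro h; rw [pw_one] at h; exact absurd h S.κ_ne
  · intro h
    rw [show (2 : ZMod 3) = 1 + 1 from rfl, pw_add hκ, pw_one] at h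
    have := hκ
    rw [pow_succ, sq, h, one_mul] at this
    exact absurd this S.κ_ne

theorem φ_inj {t t' : F} {u v : Vs 1 F} (h : S.φ e t u = S.φ e t' v) : t = t' ∧ u = v := by
  have h1 : S.φ e t u * (S.φ e t' v)⁻¹ = 1 := by rw [h, mul_inv_cancel]
  rw [φ_inv, φ_mul] at h1
  obtain ⟨h2, h3⟩ := S.φ_eq_one e h1
  have hv : u = v := by rwa [← sub_eq_add_neg, sub_eq_zero] at h3
  refine ⟨?_, hv⟩
  rw [hv] at h2
  simp [sf_one] at h2
  linear_combination h2

theorem φ_surj (hF : Fintype.card F = 3) {r : X} (hr : r ∈ S.R) : ∃ t v, S.φ e t v = r := by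
  let f : F × Vs 1 F → S.R := fun p => ⟨S.φ e p.1 p.2, S.φ_mem e _ _⟩
  have hinj : Function.Injective f := fun p q h => by
    obtain ⟨h1, h2⟩ := S.φ_inj e (congrArg Subtype.val h)
    exact Prod.ext h1 h2
  have hcard : Nat.card (F × Vs 1 F) = Nat.card S.R := by
    rw [Nat.card_prod, Nat.card_fun, Nat.card_eq_fintype_card, hF, S.card_R]
    norm_num
  obtain ⟨p, hp⟩ := (hinj.bijective_of_nat_card_le hcard.ge).2 ⟨r, hr⟩
  exact ⟨p.1, p.2, congrArg Subtype.val hp⟩

theorem exists_act (hF : Fintype.card F = 3) {l : X} (hl : l ∈ S.C) :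
    ∃ f : Vs 1 F → Vs 1 F, (∀ t u, l * S.φ e t u * l⁻¹ = S.φ e t (f u)) ∧
      (∀ u v, f (u + v) = f u + f v) ∧ ∀ u v, sf (f u) (f v) = sf u v := by
  have hl' : ∀ x, S.cj (l * x * l⁻¹) = l * S.cj x * l⁻¹ := fun x => by
    rw [S.cj_mul, S.cj_mul, S.cj_inv, S.mem_C.1 hl]
  have h0 : ∀ u, ∃ v, l * S.φ e 0 u * l⁻¹ = S.φ e 0 v := by
    intro u
    obtain ⟨t, v, h⟩ := S.φ_surj e hF (S.conj_R l (S.φ_mem e 0 u))
    have h1 := hl' (S.φ e 0 u)
    rw [← h, S.cj_φ, S.cj_φ, show S.φ e 0 (-u) = (S.φ e 0 u)⁻¹ by rw [φ_inv, neg_zero],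
      show l * (S.φ e 0 u)⁻¹ * l⁻¹ = (l * S.φ e 0 u * l⁻¹)⁻¹ by group, ← h, φ_inv] at h1
    obtain ⟨h2, -⟩ := S.φ_inj e h1
    have ht : t = 0 := by
      apply e.injective
      have h3 := congrArg e h2
      rw [map_neg] at h3
      rw [map_zero]
      revert h3; generalize e t = s; revert s; decide
    exact ⟨v, by rw [← h, ht]⟩
  choose f hf using h0
  have hfull : ∀ t u, l * S.φ e t u * l⁻¹ = S.φ e t (f u) := by
    intro t u
    have h : S.φ e t u = S.φ e t 0 * S.φ e 0 u := by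
      rw [φ_mul]; simp [sf_one]
    have hz : S.φ e t 0 ∈ S.Z := by
      simp only [φ, Pi.zero_apply, map_zero, pw_zero, one_mul]
      exact pow_mem S.κ_mem _
    rw [h, show l * (S.φ e t 0 * S.φ e 0 u) * l⁻¹ = l * S.φ e t 0 * l⁻¹ * (l * S.φ e 0 u * l⁻¹) by
      group, hf, S.Z_central l hz, mul_inv_cancel_right, φ_mul]
    simp [sf_one]
  have hmul : ∀ u v, sf (f v) (f u) = sf v u ∧ f (u + v) = f u + f v := by
    intro u v
    have h : l * (S.φ e 0 u * S.φ e 0 v) * l⁻¹ =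
        (l * S.φ e 0 u * l⁻¹) * (l * S.φ e 0 v * l⁻¹) := by group
    rw [φ_mul, hfull, hf, hf, φ_mul] at h
    obtain ⟨h1, h2⟩ := S.φ_inj e h
    exact ⟨by simpa using h1.symm, h2⟩
  exact ⟨f, hfull, fun u v => (hmul u v).2, fun u v => (hmul v u).1⟩

include S e in
/-- The iso with the stabiliser. -/
theorem iso_model (hF : Fintype.card F = 3) : Nonempty (X ≃* stabE F) := by
  classical
  obtain ⟨L, hLC, hLcard, hLR⟩ := S.exists_complement
  have hact : ∀ l : L, ∃ B : Spg 1 F, ∀ t u, l.1 * S.φ e t u * l.1⁻¹ = S.φ e t (B.1 *ᵥ u) := by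
    intro l
    obtain ⟨f, hf, hadd, hsf⟩ := S.exists_act e hF (hLC l.2)
    let Lf : Vs 1 F →ₗ[F] Vs 1 F :=
      { toFun := f
        map_add' := hadd
        map_smul' := fun c u => by
          have h0 : f 0 = 0 := by
            have := hadd 0 0
            rw [add_zero] at this
            exact left_eq_add.1 this
          have h3 : (3 : F) = 0 := by
            apply e.injective
            rw [map_ofNat, map_zero]
            rfl
          have hc : c = 0 ∨ c = 1 ∨ c = 1 + 1 := by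
            obtain h | h | h := (by decide : ∀ s : ZMod 3, s = 0 ∨ s = 1 ∨ s = 2) (e c)
            · exact Or.inl (e.injective (by rw [h, map_zero]))
            · exact Or.inr (Or.inl (e.injective (by rw [h, map_one])))
            · exact Or.inr (Or.inr (e.injective (by rw [h, map_add, map_one]; rfl)))
          rcases hc with rfl | rfl | rfl
          · simp [h0]
          · simp
          · simp [add_smul, hadd] }
    refine ⟨⟨LinearMap.toMatrix' Lf, mem_sp_iff.2 fun u v => ?_⟩, fun t u => ?_⟩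
    · simp only [LinearMap.toMatrix'_mulVec]
      exact hsf u v
    · rw [hf, LinearMap.toMatrix'_mulVec]
      rfl
  choose ρ hρ using hact
  have hρmul : ∀ l m : L, ρ (l * m) = ρ l * ρ m := by
    intro l m
    refine sp_ext_vec fun u => ?_
    have h := hρ (l * m) 0 u
    have h' : (l * m : L).1 * S.φ e 0 u * (l * m : L).1⁻¹ =
        l.1 * (m.1 * S.φ e 0 u * m.1⁻¹) * l.1⁻¹ := by
      simp only [Subgroup.coe_mul]; group
    rw [h', hρ, hρ] at h
    rw [sp_mul_mulVec]
    exact (S.φ_inj e h).2.symm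
  let ρh : L →* Spg 1 F := MonoidHom.mk' ρ hρmul
  have hρinj : Function.Injective ρh := by
    refine (injective_iff_map_eq_one ρh).2 fun l hl => Subtype.ext (hLR _ l.2 ?_)
    refine S.Z_le (S.centralizer_R_le fun r hr => ?_)
    obtain ⟨t, v, rfl⟩ := S.φ_surj e hF hr
    rw [← mul_inv_eq_iff_eq_mul, hρ, show ρ l = 1 from hl, sp_one_mulVec]
  have hρbij : Function.Bijective ρh :=
    hρinj.bijective_of_nat_card_le (by rw [hLcard, card_spg_one hF])
  let s : Spg 1 F ≃* L := (MulEquiv.ofBijective ρh hρbij).symm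
  have hs : ∀ B t u, (s B).1 * S.φ e t u * (s B).1⁻¹ = S.φ e t (B.1 *ᵥ u) := by
    intro B t u
    rw [hρ]
    have : ρ (s B) = B := (MulEquiv.ofBijective ρh hρbij).apply_symm_apply B
    rw [this]
  let ψ : Par F → X := fun p => S.φ e p.1 p.2.1 * (s p.2.2).1
  have hψinj : Function.Injective ψ := by
    intro p q h
    have h' : (S.φ e q.1 q.2.1)⁻¹ * S.φ e p.1 p.2.1 = (s q.2.2).1 * (s p.2.2).1⁻¹ := by
      rw [inv_mul_eq_iff_eq_mul, ← mul_assoc, eq_mul_inv_iff_mul_eq]
      exact h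
    have h1 : (s q.2.2).1 * (s p.2.2).1⁻¹ = 1 :=
      hLR _ (mul_mem (s q.2.2).2 (inv_mem (s p.2.2).2))
        (h' ▸ mul_mem (inv_mem (S.φ_mem e _ _)) (S.φ_mem e _ _))
    have h2 : q.2.2 = p.2.2 := s.injective (Subtype.ext (mul_inv_eq_one.1 h1))
    rw [h1, inv_mul_eq_one] at h'
    obtain ⟨h3, h4⟩ := S.φ_inj e h'
    exact Prod.ext h3.symm (Prod.ext h4.symm h2.symm)
  have hXcard : Nat.card X = 648 := by
    rw [← Subgroup.card_mul_index S.π.ker, Subgroup.index_ker, MonoidHom.range_eq_top.2 S.surj,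
      Subgroup.card_top, sl3_card, S.ker, S.card_R]
  have hψ : ∀ p q, ψ (parMul p q) = ψ p * ψ q := by
    intro p q
    simp only [ψ, parMul, map_mul, Subgroup.coe_mul]
    rw [← φ_mul S e, ← hs p.2.2 q.1 q.2.1]
    group
  exact iso_stab (Equiv.ofBijective ψ
    (hψinj.bijective_of_nat_card_le (by rw [hXcard, card_par hF]))) hψ

end Field

end Setting

end CfsgLib.Char.ShapePSpFourThree
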